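import Mathlib
import Cfsg.Prelude.Def_Local
import Cfsg.Agent.SigF.Bal1

/-!
# `O_{p',p}` is characteristic; the `q'`-core detected on fixed points of hyperplanes (S1288)
-/

set_option autoImplicit false
set_option linter.all false

namespace Cfsg.Agent.SigF.OpP

open Subgroup
open scoped commutatorElement

universe u

theorem map_pPrimePCore {A B : Type*} [Group A] [Finite A] [Group B] [Finite B] (p : ℕ) (e : A ≃* B) :
    (Cfsg.pPrimePCore p A).map e.toMonoidHom = Cfsg.pPrimePCore p B := by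
  have hO := Solv.map_pPrimeCore p e
  have key : ∀ a : A, (QuotientGroup.congr (Cfsg.pPrimeCore p A) (Cfsg.pPrimeCore p B) e hO)
      (QuotientGroup.mk' _ a) = QuotientGroup.mk' _ (e a) := fun a => rfl
  ext b
  obtain ⟨a, rfl⟩ := e.surjective b
  rw [Cfsg.pPrimePCore, Cfsg.pPrimePCore, Subgroup.mem_comap]
  have h1 : e a ∈ ((Cfsg.pCore p (A ⧸ Cfsg.pPrimeCore p A)).comap
      (QuotientGroup.mk' (Cfsg.pPrimeCore p A))).map e.toMonoidHom ↔
      QuotientGroup.mk' (Cfsg.pPrimeCore p A) a ∈ Cfsg.pCore p (A ⧸ Cfsg.pPrimeCore p A) := by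
    constructor
    · rintro ⟨a', ha', hae⟩
      have : a' = a := e.injective hae
      rw [← this]; exact ha'
    · intro h
      exact ⟨a, h, rfl⟩
  rw [h1, ← key a, ← H49.pCore_map_equiv (QuotientGroup.congr (Cfsg.pPrimeCore p A) (Cfsg.pPrimeCore p B) e hO)]
  constructor
  · intro h
    exact ⟨_, h, rfl⟩
  · rintro ⟨y, hy, hye⟩
    have : y = QuotientGroup.mk' _ a := (QuotientGroup.congr _ _ e hO).injective hye
    rw [← this]; exact hy

instance pPrimePCore_characteristic {G : Type u} [Group G] [Finite G] (p : ℕ) :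
    (Cfsg.pPrimePCore p G).Characteristic := by
  rw [Subgroup.characteristic_iff_map_eq]
  intro φ
  exact map_pPrimePCore p φ

variable {H : Type u} [Group H] [Finite H] {p : ℕ} [Fact p.Prime] {q : ℕ} [Fact q.Prime]


/-- `K` a `q`-constrained `p'`-group acted on by the elementary abelian `p`-group `A`, `U` a `q'`-subgroup
with the commutators of `U` and `C_K(B)` of order prime to `q` for all hyperplanes: `U ≤ O_{q'}(K)`. -/
theorem le_pPrimeCore_of_hyperplane {A K : Subgroup H} (hA : Cfsg.IsElementaryAbelian p A)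
    (hK : ¬ p ∣ Nat.card K) (hKs : Cfsg.IsPConstrained q K)
    (hAK : A ≤ Subgroup.normalizer (K : Set H)) {U : Subgroup H} (hU : U ≤ K)
    (hUq : ¬ q ∣ Nat.card U)
    (hcomm : ∀ B : Subgroup H, B ≤ A → B.relIndex A ∣ p →
      ∀ u ∈ U, ∀ x ∈ K ⊓ Subgroup.centralizer (B : Set H), (orderOf ⁅u, x⁆).Coprime q) :
    U ≤ (Cfsg.pPrimeCore q K).map K.subtype := by
  obtain ⟨π, hπ⟩ : ∃ π : K →* K ⧸ Cfsg.pPrimeCore q K, π = QuotientGroup.mk' _ := ⟨_, rfl⟩
  have hchar : H36.PConstr.CharP q (K ⧸ Cfsg.pPrimeCore q K) := H36.PConstr.isPConstrained_iff.1 hKs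
  set M : Subgroup H := (Cfsg.pPrimePCore q K).map K.subtype with hM
  have hMK : M ≤ K := Subgroup.map_subtype_le _
  have hAM : A ≤ Subgroup.normalizer (M : Set H) :=
    hAK.trans (H49.normalizer_le_normalizer_map_of_char K _)
  set Z : Subgroup K := (Subgroup.centralizer (((U.subgroupOf K).map π : Subgroup _) :
    Set (K ⧸ Cfsg.pPrimeCore q K))).comap π with hZ
  have hgen : M ⊓ Z.map K.subtype = M := by
    refine eq_of_hyperplane_fixed_le hA (not_dvd_of_le hK hMK) hAM inf_le_left ?_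
    intro B hB hi x hx
    refine ⟨hx.1, ⟨x, hMK hx.1⟩, ?_, rfl⟩
    rw [hZ, SetLike.mem_coe, Subgroup.mem_comap, Subgroup.mem_centralizer_iff]
    rintro _ ⟨u, hu, rfl⟩
    have h1 := hcomm B hB hi (u : H) hu x ⟨hMK hx.1, hx.2⟩
    -- the commutator in `K`
    have h2 : ((⁅u, (⟨x, hMK hx.1⟩ : K)⁆ : K) : H) = ⁅(u : H), x⁆ := rfl
    have h3 : (orderOf (π ⁅u, (⟨x, hMK hx.1⟩ : K)⁆)).Coprime q := by
      refine Nat.Coprime.coprime_dvd_left (orderOf_map_dvd π _) ?_
      rw [← Subgroup.orderOf_coe, h2]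
      exact h1
    have h4 : π ⁅u, (⟨x, hMK hx.1⟩ : K)⁆ ∈ Cfsg.pCore q (K ⧸ Cfsg.pPrimeCore q K) := by
      obtain ⟨y, hy, hyx⟩ := hx.1
      have hy' : y = (⟨x, hMK hx.1⟩ : K) := Subtype.ext hyx
      rw [← hy', map_commutatorElement]
      have h5 : π y ∈ Cfsg.pCore q (K ⧸ Cfsg.pPrimeCore q K) := by
        rw [hπ]
        exact hy
      rw [commutatorElement_def]
      exact Subgroup.mul_mem _ ((inferInstance : (Cfsg.pCore q (K ⧸ Cfsg.pPrimeCore q K)).Normal).conj_mem _ h5 _)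
        (Subgroup.inv_mem _ h5)
    have h5 : π ⁅u, (⟨x, hMK hx.1⟩ : K)⁆ = 1 := by
      obtain ⟨k, hk⟩ := IsPGroup.iff_orderOf.1 (Solv.pCore_isPGroup (G := K ⧸ Cfsg.pPrimeCore q K) q)
        ⟨_, h4⟩
      rw [← Subgroup.orderOf_coe] at hk
      rw [hk] at h3
      rw [← orderOf_eq_one_iff, hk]
      rcases Nat.eq_zero_or_pos k with h0 | h0
      · rw [h0, pow_zero]
      · exfalso
        have := (Nat.coprime_pow_left_iff h0 q q).1 h3
        rw [Nat.coprime_self] at this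
        exact (Fact.out : q.Prime).one_lt.ne' this
    rw [map_commutatorElement, commutatorElement_eq_one_iff_mul_comm] at h5
    exact h5
  -- `π(M) = O_q` is centralized by `π(U)`
  have h6 : (U.subgroupOf K).map π ≤ Cfsg.pCore q (K ⧸ Cfsg.pPrimeCore q K) := by
    refine le_trans ?_ hchar
    rintro _ ⟨u, hu, rfl⟩
    rw [Subgroup.mem_centralizer_iff]
    intro y hy
    obtain ⟨x, rfl⟩ := QuotientGroup.mk'_surjective (Cfsg.pPrimeCore q K) y
    have hx : (x : H) ∈ M := ⟨x, hy, rfl⟩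
    rw [← hgen] at hx
    obtain ⟨x', hx', hxx⟩ := hx.2
    have : x' = x := Subtype.ext hxx
    rw [this] at hx'
    have h7 := Subgroup.mem_centralizer_iff.1 (show π x ∈ _ from hx') (π u) ⟨u, hu, rfl⟩
    rw [← hπ]
    exact h7.symm
  intro u hu
  have hu' : (⟨u, hU hu⟩ : K) ∈ U.subgroupOf K := hu
  have h7 : (orderOf (π ⟨u, hU hu⟩)).Coprime q := by
    refine Nat.Coprime.coprime_dvd_left (orderOf_map_dvd π _) ?_
    rw [← Subgroup.orderOf_coe]
    have h8 : orderOf u ∣ Nat.card U := by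
      have := orderOf_dvd_natCard (⟨u, hu⟩ : U)
      rwa [← Subgroup.orderOf_coe] at this
    exact Nat.Coprime.coprime_dvd_left h8
      ((Nat.Prime.coprime_iff_not_dvd Fact.out).2 hUq).symm
  have h8 : π ⟨u, hU hu⟩ = 1 := by
    obtain ⟨k, hk⟩ := IsPGroup.iff_orderOf.1 (Solv.pCore_isPGroup (G := K ⧸ Cfsg.pPrimeCore q K) q)
      ⟨_, h6 ⟨_, hu', rfl⟩⟩
    rw [← Subgroup.orderOf_coe] at hk
    rw [hk] at h7
    rw [← orderOf_eq_one_iff, hk]
    rcases Nat.eq_zero_or_pos k with h0 | h0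
    · rw [h0, pow_zero]
    · exfalso
      have := (Nat.coprime_pow_left_iff h0 q q).1 h7
      rw [Nat.coprime_self] at this
      exact (Fact.out : q.Prime).one_lt.ne' this
  rw [hπ] at h8
  exact ⟨⟨u, hU hu⟩, (QuotientGroup.eq_one_iff _).1 h8, rfl⟩

end Cfsg.Agent.SigF.OpP
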